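import Mathlib

/-!
# A norm identity for cyclotomic polynomials, and auxiliary primes
-/

set_option autoImplicit false

namespace CfsgLib.KnownC.DivisionRing

open Polynomial Finset

/-- The field of definition of the two half products of a cyclotomic polynomial. -/
theorem cyclotomic_norm_form (l : ℕ) [Fact l.Prime] (hl : l % 4 = 3) :
    ∃ U W : ℚ[X], U ^ 2 + C (l : ℚ) * W ^ 2 = cyclotomic l ℚ := by
  classical
  have hl2 : l ≠ 2 := by omega
  haveI : NeZero l := ⟨(Fact.out : l.Prime).ne_zero⟩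
  let L := CyclotomicField l ℚ
  haveI : IsCyclotomicExtension {l} ℚ L := CyclotomicField.isCyclotomicExtension l ℚ
  set η : L := IsCyclotomicExtension.zeta l ℚ L with hη
  have hprim : IsPrimitiveRoot η l := IsCyclotomicExtension.zeta_spec l ℚ L
  haveI : IsGalois ℚ L := IsCyclotomicExtension.isGalois {l} ℚ L
  set ψ : AddChar (ZMod l) L := AddChar.zmodChar l hprim.pow_eq_one with hψ
  have hψp : ψ.IsPrimitive := AddChar.zmodChar_primitive_of_primitive_root l hprim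
  let χ0 := quadraticChar (ZMod l)
  have hchar : ringChar (ZMod l) ≠ 2 := by rw [ZMod.ringChar_zmod_n]; exact hl2
  set χ : MulChar (ZMod l) L := χ0.ringHomComp (Int.castRingHom L) with hχ
  have hχa : ∀ a, χ a = ((χ0 a : ℤ) : L) := fun a => rfl
  have hχ1 : χ ≠ 1 := by
    intro e
    obtain ⟨a, ha⟩ := quadraticChar_exists_neg_one' hchar
    have := DFunLike.congr_fun e (a : ZMod l)
    rw [hχa, MulChar.one_apply_coe, show χ0 (a : ZMod l) = -1 from ha] at this
    push_cast at this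
    have h2 : (2 : L) = 0 := by linear_combination -this
    norm_num at h2
  have hχ2 : χ.IsQuadratic := (quadraticChar_isQuadratic (ZMod l)).comp _
  have hneg : χ0 (-1) = -1 := by
    rw [quadraticChar_neg_one hchar, ZMod.card, ZMod.χ₄_nat_three_mod_four hl]
  set g := gaussSum χ ψ with hg
  have hg2 : g ^ 2 = -(l : L) := by
    rw [hg, gaussSum_sq hχ1 hχ2 hψp, hχa, hneg, ZMod.card]; push_cast; ring
  have hg0 : g ≠ 0 := fun e => by
    rw [e] at hg2
    have : (l : L) = 0 := by linear_combination hg2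
    exact (Fact.out : l.Prime).ne_zero (by exact_mod_cast this)
  -- the two half products
  let S : ℤ → Finset (ZMod l) := fun e => univ.filter fun a => χ0 a = e
  let Q : ℤ → L[X] := fun e => ∏ a ∈ S e, (X - C (ψ a))
  have hQQ : Q 1 * Q (-1) = cyclotomic l L := by
    have hdis : Disjoint (S 1) (S (-1)) := Finset.disjoint_left.2 fun a ha hb => by
      simp only [S, mem_filter] at ha hb
      omega
    have hun : (S 1).disjUnion (S (-1)) hdis = univ.erase 0 := by
      ext a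
      simp only [mem_disjUnion, S, mem_filter, mem_univ, true_and, mem_erase, and_true]
      constructor
      · intro h ha
        subst ha
        simp [χ0] at h
      · exact fun ha => quadraticChar_dichotomy ha
    have h1 : (X - 1 : L[X]) ≠ 0 := X_sub_C_ne_zero (1 : L)
    refine mul_right_cancel₀ h1 ?_
    rw [cyclotomic_prime_mul_X_sub_one, ← prod_disjUnion hdis, hun]
    have h0 : (X - 1 : L[X]) = X - C (ψ 0) := by rw [AddChar.map_zero_eq_one, map_one]
    rw [h0, prod_erase_mul _ (fun a => X - C (ψ a)) (mem_univ (0 : ZMod l)),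
      X_pow_sub_one_eq_prod (Fact.out : l.Prime).pos hprim]
    refine Finset.prod_bij (fun a _ => ψ a) (fun a _ => ?_) (fun a _ b _ e => ?_) (fun b hb => ?_) fun a _ => rfl
    · rw [mem_nthRootsFinset (Fact.out : l.Prime).pos, hψ, AddChar.zmodChar_apply, ← pow_mul, mul_comm, pow_mul,
        hprim.pow_eq_one, one_pow]
    · rw [hψ, AddChar.zmodChar_apply, AddChar.zmodChar_apply] at e
      exact ZMod.val_injective l (hprim.pow_inj (ZMod.val_lt a) (ZMod.val_lt b) e)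
    · rw [mem_nthRootsFinset (Fact.out : l.Prime).pos] at hb
      obtain ⟨i, hi, rfl⟩ := hprim.eq_pow_of_pow_eq_one hb
      exact ⟨i, mem_univ _, by rw [hψ, AddChar.zmodChar_apply']⟩
  have hgal : ∀ τ : L ≃ₐ[ℚ] L, ∃ b : ZMod l, b ≠ 0 ∧ (∀ a, τ (ψ a) = ψ (b * a)) := by
    intro τ
    have hτ : (τ η) ^ l = 1 := by rw [← map_pow, hprim.pow_eq_one, map_one]
    obtain ⟨i, hi, e⟩ := hprim.eq_pow_of_pow_eq_one hτ
    refine ⟨i, fun h0 => ?_, fun a => ?_⟩
    · rw [ZMod.natCast_eq_zero_iff] at h0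
      have : i = 0 := Nat.eq_zero_of_dvd_of_lt h0 hi
      subst this
      rw [pow_zero] at e
      exact hprim.ne_one (Fact.out : l.Prime).one_lt (τ.injective (by rw [← e, map_one]))
    · rw [hψ, AddChar.zmodChar_apply, map_pow, ← e, ← pow_mul,
        show (i : ZMod l) * a = ((i * a.val : ℕ) : ZMod l) by simp, AddChar.zmodChar_apply']
  have hτg : ∀ (τ : L ≃ₐ[ℚ] L) (b : ZMod l), b ≠ 0 → (∀ a, τ (ψ a) = ψ (b * a)) → τ g = (χ0 b : ℤ) * g := by
    intro τ b hb hab
    have e := gaussSum_mulShift χ ψ (Units.mk0 b hb)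
    have e2 : τ g = gaussSum χ (AddChar.mulShift ψ b) := by
      rw [hg, gaussSum, map_sum, gaussSum]
      refine sum_congr rfl fun a _ => ?_
      rw [map_mul, hab, AddChar.mulShift_apply, hχa, map_intCast]
    rw [Units.val_mk0, hχa, ← e2, ← hg] at e
    have hsq : (χ0 b) * (χ0 b) = 1 := by rw [← pow_two]; exact quadraticChar_sq_one hb
    calc τ g = ((χ0 b * χ0 b : ℤ) : L) * τ g := by rw [hsq]; simp
      _ = (χ0 b : ℤ) * g := by rw [Int.cast_mul]; linear_combination ((χ0 b : ℤ) : L) * e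
  have hτQ : ∀ (τ : L ≃ₐ[ℚ] L) (b : ZMod l), b ≠ 0 → (∀ a, τ (ψ a) = ψ (b * a)) → ∀ e : ℤ,
      (Q e).map (τ : L →+* L) = Q (χ0 b * e) := by
    intro τ b hb hab e
    simp only [Q, Polynomial.map_prod, Polynomial.map_sub, map_X, map_C]
    have hsq : (χ0 b) * (χ0 b) = 1 := by rw [← pow_two]; exact quadraticChar_sq_one hb
    refine Finset.prod_nbij' (fun a => b * a) (fun a => b⁻¹ * a) (fun a ha => ?_) (fun a ha => ?_)
      (fun a _ => inv_mul_cancel_left₀ hb a) (fun a _ => mul_inv_cancel_left₀ hb a) fun a _ => by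
        rw [← hab]; rfl
    · simp only [S, mem_filter, mem_univ, true_and] at ha ⊢
      rw [map_mul, ha]
    · simp only [S, mem_filter, mem_univ, true_and] at ha ⊢
      have h1 : χ0 b * χ0 b⁻¹ = 1 := by rw [← map_mul, mul_inv_cancel₀ hb, map_one]
      rw [map_mul, ha]
      calc χ0 b⁻¹ * (χ0 b * e) = (χ0 b * χ0 b⁻¹) * e := by ring
        _ = e := by rw [h1, one_mul]
  -- rationality
  have hfix : ∀ Z : L[X], (∀ τ : L ≃ₐ[ℚ] L, Z.map (τ : L →+* L) = Z) → ∃ U : ℚ[X], U.map (algebraMap ℚ L) = Z := by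
    intro Z hZ
    refine (Polynomial.mem_lifts Z).1 ((Polynomial.lifts_iff_coeff_lifts Z).2 fun n => ?_)
    refine (IsGalois.mem_range_algebraMap_iff_fixed (Z.coeff n)).2 fun τ => ?_
    conv_rhs => rw [← hZ τ, coeff_map]
    rfl
  have htwo : (2 : L) ≠ 0 := by norm_num
  obtain ⟨U, hU⟩ := hfix (C (2⁻¹ : L) * (Q 1 + Q (-1))) fun τ => by
    obtain ⟨b, hb, hab⟩ := hgal τ
    rw [Polynomial.map_mul, Polynomial.map_add, hτQ τ b hb hab, hτQ τ b hb hab, map_C]
    have hc : (τ : L →+* L) (2⁻¹ : L) = 2⁻¹ := by rw [map_inv₀, map_ofNat]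
    rw [hc]
    rcases quadraticChar_dichotomy hb with e | e <;> rw [show χ0 b = _ from e] <;> norm_num
    rw [add_comm]
  obtain ⟨W, hW⟩ := hfix (C ((2 * g)⁻¹ : L) * (Q 1 - Q (-1))) fun τ => by
    obtain ⟨b, hb, hab⟩ := hgal τ
    rw [Polynomial.map_mul, Polynomial.map_sub, hτQ τ b hb hab, hτQ τ b hb hab, map_C]
    have hc : (τ : L →+* L) ((2 * g)⁻¹ : L) = (2 * ((χ0 b : ℤ) * g))⁻¹ := by
      rw [map_inv₀, map_mul, map_ofNat]; congr 2; exact hτg τ b hb hab
    rw [hc]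
    rcases quadraticChar_dichotomy hb with e | e <;> rw [show χ0 b = _ from e] <;> norm_num
    ring
  refine ⟨U, W, ?_⟩
  apply Polynomial.map_injective (algebraMap ℚ L) (algebraMap ℚ L).injective
  rw [map_cyclotomic, ← hQQ, Polynomial.map_add, Polynomial.map_mul, Polynomial.map_pow, Polynomial.map_pow, hU, hW,
    map_C, map_natCast]
  have h4 : (C (4 : L) : L[X]) ≠ 0 := by rw [Ne, C_eq_zero]; norm_num
  refine mul_left_cancel₀ h4 ?_
  have a1 : C (4 : L) * C (2⁻¹ : L) ^ 2 = 1 := by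
    rw [← map_pow, ← map_mul, show (4 : L) * 2⁻¹ ^ 2 = 1 by norm_num, map_one]
  have a2 : C (4 : L) * C (l : L) * C ((2 * g)⁻¹ : L) ^ 2 = -1 := by
    have e : (4 : L) * (l : L) * (2 * g)⁻¹ ^ 2 = -1 := by
      rw [inv_pow, ← div_eq_mul_inv, div_eq_iff (pow_ne_zero 2 (mul_ne_zero htwo hg0))]
      linear_combination (4 : L) * hg2
    rw [← map_pow, ← map_mul, ← map_mul, e, map_neg, map_one]
  calc C (4 : L) * ((C 2⁻¹ * (Q 1 + Q (-1))) ^ 2 + C (l : L) * (C (2 * g)⁻¹ * (Q 1 - Q (-1))) ^ 2)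
      = (C (4 : L) * C 2⁻¹ ^ 2) * (Q 1 + Q (-1)) ^ 2 +
          (C (4 : L) * C (l : L) * C (2 * g)⁻¹ ^ 2) * (Q 1 - Q (-1)) ^ 2 := by ring
    _ = C (4 : L) * (Q 1 * Q (-1)) := by rw [a1, a2, map_ofNat]; ring

theorem sq_ne_five : ∀ z : ZMod 5, z ^ 2 ≠ 2 * 1 ∧ z ^ 2 ≠ 2 * 4 := by decide

/-- Twice a prime congruent to `3` or `7` modulo `20` is represented by `x² + 5y²`. -/
theorem two_mul_eq_form (l : ℕ) [Fact l.Prime] (h4 : l % 4 = 3) (h5 : l % 5 = 2) :
    ∃ A B : ℚ, A ^ 2 + 5 * B ^ 2 = 2 * l := by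
  classical
  haveI : Fact (Nat.Prime 5) := ⟨by norm_num⟩
  have hp : l.Prime := Fact.out
  have hl2 : l ≠ 2 := by omega
  have hl5 : l ≠ 5 := by omega
  have hs : IsSquare ((-5 : ℤ) : ZMod l) := by
    have h0 : ((-5 : ℤ) : ZMod l) ≠ 0 := by
      intro e
      push_cast at e
      rw [neg_eq_zero] at e
      have e' : ((5 : ℕ) : ZMod l) = 0 := by exact_mod_cast e
      rw [ZMod.natCast_eq_zero_iff] at e'
      exact hl5 ((Nat.prime_dvd_prime_iff_eq hp (by norm_num)).1 e')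
    refine (legendreSym.eq_one_iff l h0).1 ?_
    rw [show (-5 : ℤ) = -1 * ((5 : ℕ) : ℤ) by norm_num, legendreSym.mul, legendreSym.at_neg_one hl2,
      ZMod.χ₄_nat_three_mod_four h4, legendreSym.quadratic_reciprocity_one_mod_four (by norm_num : (5 : ℕ) % 4 = 1) hl2,
      legendreSym.mod, show ((l : ℤ) % ((5 : ℕ) : ℤ)) = 2 by omega]
    rw [legendreSym.at_two (by norm_num : (5 : ℕ) ≠ 2)]
    rfl
  obtain ⟨c, hc⟩ := hs
  set m := Nat.sqrt l with hm
  have hm2 : m * m < l := by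
    rcases (Nat.sqrt_le l).lt_or_eq with h | h
    · exact h
    · exfalso
      have hd : m ∣ l := ⟨m, h.symm⟩
      rcases hp.eq_one_or_self_of_dvd m hd with e | e
      · rw [← hm, e] at h
        simp at h
        exact hp.one_lt.ne' h.symm
      · rw [← hm, e] at h
        have := hp.one_lt
        nlinarith
  obtain ⟨⟨a, b⟩, ⟨a', b'⟩, hne, he⟩ := Fintype.exists_ne_map_eq_of_card_lt
    (fun p : Fin (m + 1) × Fin (m + 1) => ((p.1 : ℕ) : ZMod l) - c * ((p.2 : ℕ) : ZMod l))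
    (by rw [ZMod.card, Fintype.card_prod, Fintype.card_fin]; exact Nat.lt_succ_sqrt l)
  set x : ℤ := (a : ℤ) - (a' : ℤ) with hx
  set y : ℤ := (b : ℤ) - (b' : ℤ) with hy
  have hxy : ¬ (x = 0 ∧ y = 0) := fun ⟨e1, e2⟩ =>
    hne (Prod.ext (Fin.ext (by simp only; omega)) (Fin.ext (by simp only; omega)))
  have hzero : ((x ^ 2 + 5 * y ^ 2 : ℤ) : ZMod l) = 0 := by
    simp only at he
    rw [hx, hy]
    push_cast at hc ⊢
    linear_combination ((a : ZMod l) - a' + c * ((b : ZMod l) - b')) * he -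
      ((b : ZMod l) - b') ^ 2 * hc
  obtain ⟨k, hk⟩ := (ZMod.intCast_zmod_eq_zero_iff_dvd _ l).1 hzero
  have hl0 : (0 : ℤ) < l := by exact_mod_cast hp.pos
  have hxb : x ^ 2 ≤ (m : ℤ) * m := by
    have h1 := a.isLt; have h2 := a'.isLt
    have h3 : -(m : ℤ) ≤ x ∧ x ≤ m := by omega
    nlinarith
  have hyb : y ^ 2 ≤ (m : ℤ) * m := by
    have h1 := b.isLt; have h2 := b'.isLt
    have h3 : -(m : ℤ) ≤ y ∧ y ≤ m := by omega
    nlinarith
  have hm2' : (m : ℤ) * m < l := by exact_mod_cast hm2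
  have hpos : 0 < x ^ 2 + 5 * y ^ 2 := by
    rcases not_and_or.1 hxy with e | e <;> positivity
  have hk1 : 1 ≤ k := by nlinarith
  have hk5 : k ≤ 5 := by nlinarith
  have hl5' : (l : ZMod 5) = 2 := by rw [← ZMod.natCast_mod l 5, h5]; rfl
  have hmod : ((x : ZMod 5)) ^ 2 = 2 * (k : ZMod 5) := by
    have e := congrArg (Int.cast : ℤ → ZMod 5) hk
    push_cast at e
    rw [show (5 : ZMod 5) = 0 from rfl, zero_mul, add_zero, hl5'] at e
    exact e
  have hkey := sq_ne_five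
  rcases (by omega : k = 1 ∨ k = 2 ∨ k = 3 ∨ k = 4 ∨ k = 5) with rfl | rfl | rfl | rfl | rfl
  · exact absurd (by exact_mod_cast hmod) (hkey x).1
  · refine ⟨x, y, ?_⟩
    have e : ((x : ℚ)) ^ 2 + 5 * (y : ℚ) ^ 2 = (l : ℚ) * 2 := by exact_mod_cast hk
    linear_combination e
  · refine ⟨((x : ℚ) - 5 * y) / 3, ((x : ℚ) + y) / 3, ?_⟩
    have e : ((x : ℚ)) ^ 2 + 5 * (y : ℚ) ^ 2 = (l : ℚ) * 3 := by exact_mod_cast hk
    linear_combination (6 / 9 : ℚ) * e
  · exact absurd (by exact_mod_cast hmod) (hkey x).2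
  · exfalso
    have hx5 : (5 : ℤ) ∣ x := by
      have h5p : Prime (5 : ℤ) := by norm_num
      exact h5p.dvd_of_dvd_pow (n := 2) ⟨(l : ℤ) - y ^ 2, by linarith⟩
    obtain ⟨x', hx'⟩ := hx5
    have e : y ^ 2 + 5 * x' ^ 2 = l := by rw [hx'] at hk; linarith
    have e2 := congrArg (Int.cast : ℤ → ZMod 5) e
    push_cast at e2
    rw [show (5 : ZMod 5) = 0 from rfl, zero_mul, add_zero, hl5'] at e2
    exact (hkey y).1 (by rw [e2, mul_one])

/-- An auxiliary prime for a prime at least seven. -/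
theorem exists_aux_prime {r : ℕ} (hr : r.Prime) (h7 : 7 ≤ r) :
    ∃ l : ℕ, l.Prime ∧ l % 4 = 3 ∧ l % 5 = 2 ∧ (l + 1) % r = 0 := by
  haveI : Fact r.Prime := ⟨hr⟩
  haveI : NeZero (20 * r) := ⟨by positivity⟩
  have hcop : Nat.Coprime 20 r := by
    refine ((hr.coprime_iff_not_dvd).2 fun h => ?_).symm
    have : r = 2 ∨ r = 5 := by
      rw [show (20 : ℕ) = 2 * 2 * 5 by norm_num] at h
      rcases (Nat.Prime.dvd_mul hr).1 h with h | h
      · left
        rcases (Nat.Prime.dvd_mul hr).1 h with h | h <;> exact (Nat.prime_dvd_prime_iff_eq hr Nat.prime_two).1 h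
      · right; exact (Nat.prime_dvd_prime_iff_eq hr (by norm_num)).1 h
    omega
  let e := ZMod.chineseRemainder hcop
  have hu : IsUnit (e.symm (7, -1)) := by
    refine IsUnit.map e.symm ?_
    rw [Prod.isUnit_iff]
    exact ⟨IsUnit.of_mul_eq_one (3 : ZMod 20) rfl, isUnit_one.neg⟩
  obtain ⟨l, -, hl, he⟩ := Nat.forall_exists_prime_gt_and_eq_mod hu 0
  have h := congrArg e he
  rw [map_natCast, RingEquiv.apply_symm_apply, Prod.ext_iff] at h
  have h20 : ((l : ℕ) : ZMod 20) = ((7 : ℕ) : ZMod 20) := h.1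
  rw [ZMod.natCast_eq_natCast_iff'] at h20
  refine ⟨l, hl, by omega, by omega, ?_⟩
  rw [← Nat.dvd_iff_mod_eq_zero, ← ZMod.natCast_eq_zero_iff]
  push_cast
  rw [show ((l : ℕ) : ZMod r) = -1 from h.2, neg_add_cancel]

end CfsgLib.KnownC.DivisionRing
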