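import Cfsg.Agent.Lib.KnownC.DivisionRing.GaussNorm

/-!
# `SL₂(5)` inside a division ring of characteristic zero
-/

set_option autoImplicit false

open Matrix
open scoped MatrixGroups

namespace CfsgLib.KnownC.DivisionRing

abbrev S5 : Type := SL(2, ZMod 5)

/-- The element of order four. -/
def gA : S5 := ⟨!![0, 1; -1, 0], by decide⟩
/-- An element of order four anticommuting with `gA`. -/
def gJ : S5 := ⟨!![2, 0; 0, 3], by decide⟩
/-- An element of order five. -/
def gU : S5 := ⟨!![1, 1; 0, 1], by decide⟩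

theorem facts :
    gA * gA = -1 ∧ gJ * gJ = -1 ∧ gJ * gA = -(gA * gJ) ∧ gU ^ 5 = 1 ∧ gU ≠ 1 ∧
      (gA * gU) ^ 3 = 1 ∧ gA * gU ≠ 1 ∧ (gU * gA) ^ 3 = 1 ∧ gU * gA ≠ 1 ∧ gU * gU ≠ 1 ∧ (-1 : S5) ≠ 1 := by
  decide

theorem word_J : gJ = gU * gU * gA * (gU * gU)⁻¹ * gA⁻¹ * (gU * gU) * gA⁻¹ := by decide

theorem facts_outer :
    (gU * gU) * (gU * gU) * ((gU * gU) * (gU * gU))⁻¹ = 1 ∧
      -(gA * gJ) = gJ * gA ∧ gJ * gU * gJ⁻¹ = gU ^ 4 ∧ gJ * gU ^ 3 * gJ⁻¹ = gU ^ 2 ∧
      gJ * gA * gJ⁻¹ = gA⁻¹ ∧ gA * (-(gA * gJ)) * gJ = -1 ∧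
      (-(gA * gJ)) * (gU ^ 2 * gU ^ 2) = (-(gA * gJ)) * gU ^ 4 := by decide

theorem cube_cases : ∀ p q r s : ZMod 5, p * s - q * r = 1 →
    !![p, q; r, s] * !![p, q; r, s] = (-1 : Matrix (Fin 2) (Fin 2) (ZMod 5)) →
    !![p, q; r, s] * !![1, 1; 0, 1] * (!![p, q; r, s] * !![1, 1; 0, 1]) * (!![p, q; r, s] * !![1, 1; 0, 1]) =
      (1 : Matrix (Fin 2) (Fin 2) (ZMod 5)) →
    r = -1 ∧ s = -p := by decide

theorem pow_val : ∀ t : ZMod 5, (gU ^ t.val).1 = !![1, t; 0, 1] := by decide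

theorem val_mul (X Y : S5) : (X * Y).1 = X.1 * Y.1 := rfl

/-- The elements completing `gU` to the standard generating pair. -/
theorem exists_shift {A : S5} (h4 : A * A = -1) (h3 : (A * gU) ^ 3 = 1) :
    ∃ t : ℕ, gU ^ t * A * (gU ^ t)⁻¹ = gA := by
  set p := A.1 0 0 with hp
  set q := A.1 0 1
  set r := A.1 1 0
  set s := A.1 1 1
  have hA : A.1 = !![p, q; r, s] := Matrix.eta_fin_two A.1
  have hd : p * s - q * r = 1 := by
    have := A.2; rwa [hA, Matrix.det_fin_two_of] at this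
  obtain ⟨hr, hs⟩ := cube_cases p q r s hd (by
    have := congrArg Subtype.val h4
    simpa [hA] using this) (by
    have := congrArg (fun X : S5 => X.1) h3
    simp only [pow_succ, pow_zero, one_mul, val_mul, SpecialLinearGroup.coe_one, hA] at this
    exact this)
  refine ⟨p.val, ?_⟩
  have hq : q = 1 + p * p := by linear_combination hd + (-q) * hr * (-1) + (-p) * hs
  apply Subtype.ext
  show (gU ^ p.val).1 * A.1 * Matrix.adjugate (gU ^ p.val).1 = !![0, 1; -1, 0]
  rw [pow_val p]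
  rw [Matrix.adjugate_fin_two_of, hA, hr, hs, hq]
  simp only [Matrix.mul_fin_two]
  ext i j
  fin_cases i <;> fin_cases j <;> simp <;> ring

variable {D : Type*} [DivisionRing D] [CharZero D]

theorem map_neg_one (ι : S5 →* D) (hι : Function.Injective ι) : ι (-1) = -1 := by
  have h : ι (-1) * ι (-1) = 1 := by rw [← map_mul, neg_mul_neg, one_mul, map_one]
  rcases mul_self_eq_one_iff.1 h with e | e
  · exact absurd (hι (e.trans (map_one ι).symm)) facts.2.2.2.2.2.2.2.2.2.2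
  · exact e

theorem map_neg' (ι : S5 →* D) (hι : Function.Injective ι) (g : S5) : ι (-g) = -ι g := by
  rw [← neg_one_mul g, map_mul, map_neg_one ι hι, neg_one_mul]

theorem cube_root {z : D} (h : z ^ 3 = 1) (h1 : z ≠ 1) : z * z + z + 1 = 0 := by
  have e : (z - 1) * (z * z + z + 1) = 0 := by
    rw [pow_succ, pow_two] at h
    rw [show (z - 1) * (z * z + z + 1) = z * (z * z) - 1 by noncomm_ring, ← mul_assoc, h, sub_self]
  exact (mul_eq_zero.1 e).resolve_left (sub_ne_zero.2 h1)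

/-- The central element of order five trace. -/
def tau (ι : S5 →* D) : D := ι gU + ι gU⁻¹

theorem tau_rel (ι : S5 →* D) (hι : Function.Injective ι) : tau ι * tau ι + tau ι - 1 = 0 := by
  set c := ι gU with hc
  set d := ι gU⁻¹ with hd
  have hcd : c * d = 1 := by rw [hc, hd, ← map_mul, mul_inv_cancel, map_one]
  have hdc : d * c = 1 := by rw [hc, hd, ← map_mul, inv_mul_cancel, map_one]
  have hc5 : c * c * c * c * c = 1 := by
    rw [hc]; simp only [← map_mul]; rw [show gU * gU * gU * gU * gU = 1 by decide, map_one]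
  have hc1 : c ≠ 1 := fun e => facts.2.2.2.2.1 (hι (e.trans (map_one ι).symm))
  have h4 : c * c * c * c + c * c * c + c * c + c + 1 = 0 := by
    have e : (c - 1) * (c * c * c * c + c * c * c + c * c + c + 1) = 0 := by
      rw [show (c - 1) * (c * c * c * c + c * c * c + c * c + c + 1) = c * c * c * c * c - 1 by noncomm_ring, hc5,
        sub_self]
    exact (mul_eq_zero.1 e).resolve_left (sub_ne_zero.2 hc1)
  have hd4 : d = c * c * c * c := by
    calc d = c * c * c * c * c * d := by rw [hc5, one_mul]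
      _ = c * c * c * c * (c * d) := by noncomm_ring
      _ = c * c * c * c := by rw [hcd, mul_one]
  have hdd : d * d = c * c * c := by
    rw [hd4, show c * c * c * c * (c * c * c * c) = (c * c * c * c * c) * (c * c * c) by noncomm_ring, hc5, one_mul]
  show (c + d) * (c + d) + (c + d) - 1 = 0
  rw [show (c + d) * (c + d) + (c + d) - 1 = c * c + c * d + d * c + d * d + c + d - 1 by noncomm_ring, hcd, hdc, hdd,
    hd4, ← h4]
  abel

theorem tau_commute (ι : S5 →* D) (hι : Function.Injective ι) :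
    Commute (tau ι) (ι gA) ∧ Commute (tau ι) (ι gU) ∧ Commute (tau ι) (ι gJ) := by
  obtain ⟨hA, -, -, -, -, hau, hau1, hua, hua1, -, -⟩ := facts
  have key : ∀ g : S5, g ^ 3 = 1 → g ≠ 1 → ι g + ι g⁻¹ + 1 = 0 := fun g hg hg1 => by
    have := cube_root (z := ι g) (by rw [← map_pow, hg, map_one]) fun e => hg1 (hι (e.trans (map_one ι).symm))
    have hi : ι g⁻¹ = ι g * ι g := by
      rw [← map_mul]; congr 1
      rw [inv_eq_iff_mul_eq_one, ← mul_assoc, ← pow_two, ← pow_succ, hg]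
    rw [hi, ← this]; abel
  have hAi : ι gA⁻¹ = -ι gA := by
    rw [show gA⁻¹ = -gA from inv_eq_of_mul_eq_one_right (by rw [mul_neg, hA, neg_neg]), map_neg' ι hι]
  have e1 := key _ hau hau1
  have e2 := key _ hua hua1
  rw [_root_.mul_inv_rev, map_mul, map_mul, hAi] at e1 e2
  have h1 : Commute (tau ι) (ι gA) := by
    show (ι gU + ι gU⁻¹) * ι gA = ι gA * (ι gU + ι gU⁻¹)
    have := sub_eq_zero.2 (e2.trans e1.symm)
    rw [← sub_eq_zero, ← this]
    noncomm_ring
  have h2 : Commute (tau ι) (ι gU) := by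
    show (ι gU + ι gU⁻¹) * ι gU = ι gU * (ι gU + ι gU⁻¹)
    rw [add_mul, mul_add, ← map_mul ι gU⁻¹, inv_mul_cancel, ← map_mul ι gU gU⁻¹, mul_inv_cancel]
  refine ⟨h1, h2, ?_⟩
  have h1' : Commute (tau ι) (ι gA⁻¹) := by rw [hAi]; exact h1.neg_right
  have h2' : Commute (tau ι) (ι gU⁻¹) := by
    show (ι gU + ι gU⁻¹) * ι gU⁻¹ = ι gU⁻¹ * (ι gU + ι gU⁻¹)
    rw [add_mul, mul_add, ← map_mul ι gU gU⁻¹, mul_inv_cancel, ← map_mul ι gU⁻¹ gU, inv_mul_cancel]
  rw [word_J, _root_.mul_inv_rev]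
  simp only [map_mul]
  exact (((((((h2.mul_right h2).mul_right h1).mul_right (h2'.mul_right h2')).mul_right h1').mul_right
    (h2.mul_right h2)).mul_right h1'))

/-- No element of prime order at least seven commutes with `SL₂(5)`. -/
theorem no_commuting_prime (ι : S5 →* D) (hι : Function.Injective ι) {ζ : D} {r : ℕ} (hr : r.Prime) (h7 : 7 ≤ r)
    (hζ : ζ ^ r = 1) (hζ1 : ζ ≠ 1) (hA : Commute ζ (ι gA)) (hU : Commute ζ (ι gU)) (hJ : Commute ζ (ι gJ)) :
    False := by
  obtain ⟨l, hl, h4, h5, hlr⟩ := exists_aux_prime hr h7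
  haveI : Fact l.Prime := ⟨hl⟩
  obtain ⟨U, W, hUW⟩ := cyclotomic_norm_form l h4
  obtain ⟨A, B, hAB⟩ := two_mul_eq_form l h4 h5
  have h21 : r % 2 = 1 := hr.eq_two_or_odd.resolve_left (by omega)
  obtain ⟨h, hh⟩ : ∃ h, 2 * h = r + 1 := ⟨(r + 1) / 2, by omega⟩
  set f : Polynomial ℚ →ₐ[ℚ] D := Polynomial.aeval ζ with hf
  set X0 := f (U * Polynomial.X ^ h) with hX0
  set Y0 := f (W * Polynomial.X ^ h) with hY0
  have hΦ : f (Polynomial.cyclotomic l ℚ) * ζ = -1 := by
    have e := congrArg f (Polynomial.cyclotomic_prime_mul_X_sub_one ℚ l)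
    rw [map_mul, map_sub, map_sub, map_pow, map_one, hf, Polynomial.aeval_X, ← hf] at e
    obtain ⟨m, hm⟩ := (Nat.dvd_iff_mod_eq_zero).2 hlr
    have hl1 : ζ ^ l * ζ = 1 := by rw [← pow_succ, hm, pow_mul, hζ, one_pow]
    have e2 : (f (Polynomial.cyclotomic l ℚ) * ζ + 1) * (ζ - 1) = 0 := by
      have hc : Commute ζ (ζ - 1) := (Commute.refl ζ).sub_right (Commute.one_right ζ)
      rw [add_mul, mul_assoc, hc.eq, ← mul_assoc, e, one_mul, sub_mul, hl1, one_mul]
      abel
    exact eq_neg_of_add_eq_zero_left ((mul_eq_zero.1 e2).resolve_right (sub_ne_zero.2 hζ1))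
  have hXY : X0 * X0 + (l : D) * (Y0 * Y0) = -1 := by
    have e : U * Polynomial.X ^ h * (U * Polynomial.X ^ h) +
        Polynomial.C (l : ℚ) * (W * Polynomial.X ^ h * (W * Polynomial.X ^ h)) =
        Polynomial.cyclotomic l ℚ * Polynomial.X ^ (r + 1) := by
      rw [← hUW, ← hh]; ring
    have e' := congrArg f e
    rw [map_add, map_mul, map_mul f (Polynomial.C _), map_mul f (W * _), map_mul f (Polynomial.cyclotomic l ℚ),
      map_natCast Polynomial.C, map_natCast f, map_pow, hf, Polynomial.aeval_X, ← hf, pow_succ, hζ, one_mul, hΦ] at e'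
    exact e'
  -- the quaternion of norm `l`
  set a := ι gA with ha
  set j := ι gJ with hj
  set τ := tau ι
  obtain ⟨hτa, -, hτj⟩ := tau_commute ι hι
  set k := a * j with hk
  have haa : a * a = -1 := by rw [ha, ← map_mul, facts.1, map_neg_one ι hι]
  have hjj : j * j = -1 := by rw [hj, ← map_mul, facts.2.1, map_neg_one ι hι]
  have hja : j * a = -(a * j) := by
    rw [ha, hj, ← map_mul, ← map_mul, facts.2.2.1, map_neg' ι hι]
  set s := 2 * τ + 1 with hs
  have hs2 : s * s = 5 := by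
    have e : (2 * τ + 1) * (2 * τ + 1) =
        (τ * τ + τ - 1) + (τ * τ + τ - 1) + (τ * τ + τ - 1) + (τ * τ + τ - 1) + (1 + 1 + 1 + 1 + 1) := by noncomm_ring
    rw [hs, e, tau_rel ι hι]
    norm_num
  have hsa : Commute s a := ((Commute.ofNat_left 2 a).mul_left hτa).add_left (Commute.one_left a)
  have hsj : Commute s j := ((Commute.ofNat_left 2 j).mul_left hτj).add_left (Commute.one_left j)
  obtain ⟨y, hy⟩ : ∃ y, y = ((A / 2 : ℚ) : D) + ((B / 2 : ℚ) : D) * s := ⟨_, rfl⟩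
  obtain ⟨z, hz⟩ : ∃ z, z = ((A / 2 : ℚ) : D) - ((B / 2 : ℚ) : D) * s := ⟨_, rfl⟩
  have hcast : ∀ (c : ℚ) (x : D), Commute (c : D) x := fun c x => Rat.cast_commute c x
  have hya : Commute y a := hy ▸ (hcast _ a).add_left ((hcast _ a).mul_left hsa)
  have hyj : Commute y j := hy ▸ (hcast _ j).add_left ((hcast _ j).mul_left hsj)
  have hza : Commute z a := hz ▸ (hcast _ a).sub_left ((hcast _ a).mul_left hsa)
  have hzj : Commute z j := hz ▸ (hcast _ j).sub_left ((hcast _ j).mul_left hsj)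
  have hyz : Commute y z := by
    rw [hy]
    refine (hcast _ z).add_left ?_
    rw [hz]
    exact (hcast _ _).symm.sub_right (Commute.refl _)
  have hyk : Commute y k := hya.mul_right hyj
  have hzk : Commute z k := hza.mul_right hzj
  set q := y * j + z * k with hq
  have hqa : q * a = -(a * q) := by
    rw [hq, add_mul, mul_add, mul_assoc, hja, mul_neg, ← mul_assoc y, hya.eq, mul_assoc a y,
      mul_assoc z k a, hk, mul_assoc a j a, hja, mul_neg, mul_neg, ← mul_assoc z a, hza.eq, mul_assoc a z, neg_add]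
  have hqq : q * q = -(l : D) := by
    have hjk : j * k + k * j = 0 := by
      rw [hk, ← mul_assoc, hja, mul_assoc a j j, neg_mul, mul_assoc, add_comm, ← sub_eq_add_neg, sub_self]
    have hkk : k * k = -1 := by
      rw [hk, mul_assoc, ← mul_assoc j, hja, neg_mul, mul_neg, mul_assoc a j j, hjj, mul_neg_one, mul_neg, neg_neg, haa]
    have e : q * q = y * y * (j * j) + z * z * (k * k) + y * z * (j * k + k * j) := by
      rw [hq, add_mul, mul_add, mul_add, hyj.symm.mul_mul_mul_comm, hzk.symm.mul_mul_mul_comm,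
        hzj.symm.mul_mul_mul_comm, hyk.symm.mul_mul_mul_comm, ← hyz.eq, mul_add]
      abel
    rw [e, hjj, hjk, hkk, mul_zero, add_zero, mul_neg_one, mul_neg_one, ← neg_add]
    congr 1
    have hAs : Commute ((A / 2 : ℚ) : D) s := hcast _ s
    have hBs : Commute ((B / 2 : ℚ) : D) s := hcast _ s
    have e1 : y * y + z * z =
        2 * ((A / 2 : ℚ) : D) * ((A / 2 : ℚ) : D) + 2 * (((B / 2 : ℚ) : D) * s * (((B / 2 : ℚ) : D) * s)) := by
      rw [hy, hz]
      noncomm_ring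
    rw [e1, hBs.symm.mul_mul_mul_comm, hs2]
    have e2 : (2 * (A / 2) * (A / 2) + 2 * ((B / 2) * (B / 2) * 5) : ℚ) = (l : ℚ) := by linear_combination hAB / 2
    exact_mod_cast congrArg (fun x : ℚ => (x : D)) e2
  -- commutation with the cyclotomic field
  have hev : ∀ (P : Polynomial ℚ) {x : D}, Commute ζ x → Commute (f P) x := fun P x hx => by
    induction P using Polynomial.induction_on' with
    | add P Q hP hQ => rw [map_add]; exact hP.add_left hQ
    | monomial n c =>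
      rw [hf, Polynomial.aeval_monomial]
      exact ((Algebra.commute_algebraMap_left c x).mul_left (hx.pow_left n))
  have hζτ : Commute ζ τ := by
    show Commute ζ (ι gU + ι gU⁻¹)
    refine hU.add_right ?_
    have e : ι gU⁻¹ = (ι gU) ^ 4 := by rw [← map_pow]; congr 1; decide
    rw [e]; exact hU.pow_right 4
  have hζs : Commute ζ s := ((Commute.ofNat_right ζ 2).mul_right hζτ).add_right (Commute.one_right ζ)
  have hζy : Commute ζ y := hy ▸ (hcast _ ζ).symm.add_right ((hcast _ ζ).symm.mul_right hζs)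
  have hζz : Commute ζ z := hz ▸ (hcast _ ζ).symm.sub_right ((hcast _ ζ).symm.mul_right hζs)
  have hζq : Commute ζ q := (hζy.mul_right hJ).add_right (hζz.mul_right (hA.mul_right hJ))
  have hXa : Commute X0 a := hev _ hA
  have hXj : Commute X0 j := hev _ hJ
  have hYa : Commute Y0 a := hev _ hA
  have hXq : Commute X0 q := hev _ hζq
  have hYq : Commute Y0 q := hev _ hζq
  have hXY' : Commute X0 Y0 := hev _ (hev _ (Commute.refl ζ)).symm
  have hYqa : Y0 * q * a = -(a * (Y0 * q)) := by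
    rw [mul_assoc, hqa, mul_neg, ← mul_assoc, hYa.eq, mul_assoc]
  have hprod : (X0 + Y0 * q + a) * (X0 - Y0 * q - a) = 0 := by
    have e1 : (X0 + Y0 * q + a) * (X0 - Y0 * q - a) =
        X0 * X0 - Y0 * q * (Y0 * q) - a * a + (Y0 * q * X0 - X0 * (Y0 * q)) + (a * X0 - X0 * a)
          - (Y0 * q * a + a * (Y0 * q)) := by noncomm_ring
    rw [e1, ((hXY'.mul_right hXq)).eq, hXa.eq, hYqa, hYq.symm.mul_mul_mul_comm, hqq, haa, mul_neg,
      ← (Nat.cast_commute l (Y0 * Y0)).eq]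
    rw [show X0 * X0 - -((l : D) * (Y0 * Y0)) = -1 by rw [sub_neg_eq_add, hXY]]
    abel
  have key : ∀ e : D, (e = 1 ∨ e = -1) → X0 + e * (Y0 * q + a) = 0 → False := by
    intro e he h0
    have hec : ∀ x : D, Commute e x := fun x => by
      rcases he with rfl | rfl
      · exact Commute.one_left x
      · exact (Commute.one_left x).neg_left
    have he2 : e * e = 1 := by rcases he with rfl | rfl <;> simp
    have h1 : Y0 * q + a = -(e * X0) := by
      have := congrArg (e * ·) h0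
      simp only [mul_add, ← mul_assoc, he2, one_mul, mul_zero] at this
      exact eq_neg_of_add_eq_zero_right this
    have hc : (Y0 * q + a) * a = a * (Y0 * q + a) := by
      rw [h1]; exact (((hec a).mul_left hXa).neg_left).eq
    have hz0 : a * (Y0 * q) = 0 := by
      have h2 : Y0 * q * a + a * a = a * (Y0 * q) + a * a := by rw [← add_mul, ← mul_add]; exact hc
      rw [hYqa] at h2
      exact add_self_eq_zero.1 (add_eq_zero_iff_eq_neg.2 (add_right_cancel h2).symm)
    have ha0 : a ≠ 0 := fun e' => by simp [e'] at haa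
    have hYq0 := (mul_eq_zero.1 hz0).resolve_left ha0
    rw [hYq0, zero_add] at h1
    have hcj : Commute a j := by rw [h1]; exact ((hec j).mul_left hXj).neg_left
    rw [hcj.eq] at hja
    have : a * j = 0 := by rw [hcj.eq]; exact add_self_eq_zero.1 (eq_neg_iff_add_eq_zero.1 hja)
    rcases mul_eq_zero.1 this with e' | e'
    · exact ha0 e'
    · simp [e'] at hjj
  rcases mul_eq_zero.1 hprod with e | e
  · exact key 1 (Or.inl rfl) (by rw [one_mul, ← e, add_assoc])
  · exact key (-1) (Or.inr rfl) (by rw [← e]; noncomm_ring)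

/-- No element of two-power order outside the group centralises two anticommuting elements. -/
theorem two_power_centralizer (ι : S5 →* D) (hι : Function.Injective ι) {w : D} {k : ℕ} (hw : w ^ 2 ^ k = 1)
    (hA : Commute w (ι gA)) (hJ : Commute w (ι gJ)) : w = 1 ∨ w = -1 := by
  induction k generalizing w with
  | zero => exact Or.inl (by simpa using hw)
  | succ k ih =>
    rcases ih (w := w * w) (by rw [← pow_two, ← pow_mul, ← pow_succ']; exact hw) (hA.mul_left hA) (hJ.mul_left hJ)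
      with e | e
    · exact mul_self_eq_one_iff.1 e
    · exfalso
      set a := ι gA with ha
      have haa : a * a = -1 := by rw [ha, ← map_mul, facts.1, map_neg_one ι hι]
      have e2 : (w - a) * (w + a) = 0 := by
        rw [show (w - a) * (w + a) = w * w - a * a + (w * a - a * w) by noncomm_ring, e, haa, hA.eq]
        simp
      have hcj : Commute a (ι gJ) := by
        rcases mul_eq_zero.1 e2 with e3 | e3
        · rw [← sub_eq_zero.1 e3]; exact hJ
        · rw [← neg_eq_of_add_eq_zero_right e3]; exact hJ.neg_left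
      have h3 : gA * gJ = gJ * gA := hι (by rw [map_mul, map_mul]; exact hcj.eq)
      exact absurd h3 (by decide)

theorem five_conj {φ : S5 →* S5} (hφ : Function.Injective φ) :
    ∃ g : S5, g * φ gU * g⁻¹ = gU ∨ g * φ gU * g⁻¹ = gU ^ 2 := by
  classical
  haveI : Fact (Nat.Prime 5) := ⟨by norm_num⟩
  have hcard : Nat.card S5 = 120 := by rw [Nat.card_eq_fintype_card]; rfl
  have hfac : (Nat.card S5).factorization 5 = 1 := by
    rw [hcard, show (120 : ℕ) = 5 * 24 by norm_num, Nat.factorization_mul (by norm_num) (by norm_num),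
      Finsupp.add_apply, Nat.Prime.factorization_self (by norm_num), Nat.factorization_eq_zero_of_not_dvd (by norm_num)]
  have hu : orderOf gU = 5 := orderOf_eq_prime facts.2.2.2.1 facts.2.2.2.2.1
  have hfu : orderOf (φ gU) = 5 := (orderOf_injective φ hφ gU).trans hu
  let P : Sylow 5 S5 := Sylow.ofCard (Subgroup.zpowers (φ gU)) (by rw [Nat.card_zpowers, hfu, hfac, pow_one])
  let Q : Sylow 5 S5 := Sylow.ofCard (Subgroup.zpowers gU) (by rw [Nat.card_zpowers, hu, hfac, pow_one])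
  obtain ⟨g, hg⟩ := MulAction.exists_smul_eq S5 P Q
  have hmem : g * φ gU * g⁻¹ ∈ (Q : Subgroup S5) := by
    rw [← hg, Sylow.coe_subgroup_smul]
    exact Subgroup.smul_mem_pointwise_smul (φ gU) (MulAut.conj g) _ (Subgroup.mem_zpowers _)
  obtain ⟨i, hi, hie⟩ : ∃ i, i < 5 ∧ gU ^ i = g * φ gU * g⁻¹ := by
    obtain ⟨i, hie⟩ := mem_powers_iff_mem_zpowers.2 (hmem : g * φ gU * g⁻¹ ∈ Subgroup.zpowers gU)
    exact ⟨i % 5, Nat.mod_lt _ (by norm_num), by
      have e := pow_mod_orderOf gU i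
      rw [hu] at e
      rw [e]; exact hie⟩
  have h4 := facts_outer.2.2.1
  have h3 := facts_outer.2.2.2.1
  interval_cases i
  · exfalso
    rw [pow_zero] at hie
    have : φ gU = 1 := conj_eq_one_iff.1 hie.symm
    exact facts.2.2.2.2.1 (hφ (this.trans (map_one φ).symm))
  · exact ⟨g, Or.inl (by rw [← hie, pow_one])⟩
  · exact ⟨g, Or.inr hie.symm⟩
  · refine ⟨gJ * g, Or.inr ?_⟩
    rw [show gJ * g * φ gU * (gJ * g)⁻¹ = gJ * (g * φ gU * g⁻¹) * gJ⁻¹ by group, ← hie]
    decide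
  · refine ⟨gJ * g, Or.inl ?_⟩
    rw [show gJ * g * φ gU * (gJ * g)⁻¹ = gJ * (g * φ gU * g⁻¹) * gJ⁻¹ by group, ← hie]
    decide

/-- The diagonal outer automorphism. -/
def outerAut : S5 →* S5 where
  toFun X := ⟨(!![3, 0; 0, 1] : Matrix (Fin 2) (Fin 2) (ZMod 5)) * X.1 * !![2, 0; 0, 1], by
    rw [Matrix.det_mul, Matrix.det_mul, X.2, mul_one, ← Matrix.det_mul]; rfl⟩
  map_one' := Subtype.ext (show (!![3, 0; 0, 1] : Matrix (Fin 2) (Fin 2) (ZMod 5)) * 1 * !![2, 0; 0, 1] = 1 by decide)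
  map_mul' X Y := by
    apply Subtype.ext
    show !![3, 0; 0, 1] * (X.1 * Y.1) * !![2, 0; 0, 1] =
      !![3, 0; 0, 1] * X.1 * !![2, 0; 0, 1] * (!![3, 0; 0, 1] * Y.1 * !![2, 0; 0, 1])
    have h : (!![2, 0; 0, 1] * !![3, 0; 0, 1] : Matrix (Fin 2) (Fin 2) (ZMod 5)) = 1 := by decide
    calc _ = !![3, 0; 0, 1] * X.1 * 1 * (Y.1 * !![2, 0; 0, 1]) := by simp only [mul_one, Matrix.mul_assoc]
      _ = _ := by rw [← h]; simp only [Matrix.mul_assoc]

theorem outerAut_facts : outerAut (gU ^ 2) = gU ∧ outerAut (-(gA * gJ)) = gA ∧ outerAut (-1) = -1 := by decide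

theorem outerAut_injective : Function.Injective outerAut := fun X Y e => by
  apply Subtype.ext
  have h : (!![2, 0; 0, 1] * !![3, 0; 0, 1] : Matrix (Fin 2) (Fin 2) (ZMod 5)) = 1 := by decide
  have key : ∀ Z : S5, (!![2, 0; 0, 1] : Matrix (Fin 2) (Fin 2) (ZMod 5)) * (outerAut Z).1 * !![3, 0; 0, 1] = Z.1 :=
    fun Z => by
      show !![2, 0; 0, 1] * (!![3, 0; 0, 1] * Z.1 * !![2, 0; 0, 1]) * !![3, 0; 0, 1] = Z.1
      calc _ = (!![2, 0; 0, 1] * !![3, 0; 0, 1]) * Z.1 * (!![2, 0; 0, 1] * !![3, 0; 0, 1]) := by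
            simp only [Matrix.mul_assoc]
        _ = Z.1 := by rw [h, one_mul, mul_one]
  rw [← key X, ← key Y, e]

theorem outer_shift {A : S5} (h4 : A * A = -1) (h3 : (A * gU ^ 2) ^ 3 = 1) :
    ∃ t : ℕ, gU ^ t * A * (gU ^ t)⁻¹ = -(gA * gJ) := by
  obtain ⟨hu, ha, hneg⟩ := outerAut_facts
  obtain ⟨t, ht⟩ := exists_shift (A := outerAut A) (by rw [← map_mul, h4, hneg])
    (by rw [← hu, ← map_mul, ← map_pow, h3, map_one])
  refine ⟨2 * t, outerAut_injective ?_⟩
  rw [map_mul, map_mul, map_inv, map_pow, pow_mul, ← map_pow outerAut (gU) 2, hu, ha]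
  exact ht

theorem sq_cases : ∀ p q r s : ZMod 5, p * s - q * r = 1 →
    !![p, q; r, s] * !![p, q; r, s] = (1 : Matrix (Fin 2) (Fin 2) (ZMod 5)) →
    !![p, q; r, s] = (1 : Matrix (Fin 2) (Fin 2) (ZMod 5)) ∨
      !![p, q; r, s] = (-1 : Matrix (Fin 2) (Fin 2) (ZMod 5)) := by decide

theorem eq_neg_one_of_sq {X : S5} (h : X * X = 1) (h1 : X ≠ 1) : X = -1 := by
  have hA := Matrix.eta_fin_two X.1
  have hd := X.2
  have h' := congrArg Subtype.val h
  rw [hA, Matrix.det_fin_two_of] at hd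
  rw [show (X * X).1 = X.1 * X.1 from rfl, hA] at h'
  rcases sq_cases _ _ _ _ hd h' with e | e
  · exact absurd (Subtype.ext (hA.trans e)) h1
  · exact Subtype.ext (hA.trans e)

theorem inner_or_outer {φ : S5 →* S5} (hφ : Function.Injective φ) :
    ∃ g : S5, (g * φ gU * g⁻¹ = gU ∧ g * φ gA * g⁻¹ = gA) ∨
      (g * φ gU * g⁻¹ = gU ^ 2 ∧ g * φ gA * g⁻¹ = -(gA * gJ)) := by
  obtain ⟨g, hg⟩ := five_conj hφ
  have h4 : g * φ gA * g⁻¹ * (g * φ gA * g⁻¹) = -1 := by
    have e : φ gA * φ gA = -1 := by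
      have hneg : φ (-1) = -1 := by
        have h2 : φ (-1) * φ (-1) = 1 := by rw [← map_mul, neg_mul_neg, one_mul, map_one]
        have h1 : φ (-1) ≠ 1 := fun e => facts.2.2.2.2.2.2.2.2.2.2 (hφ (e.trans (map_one φ).symm))
        exact eq_neg_one_of_sq h2 h1
      rw [← map_mul, facts.1, hneg]
    rw [show g * φ gA * g⁻¹ * (g * φ gA * g⁻¹) = g * (φ gA * φ gA) * g⁻¹ by group, e, mul_neg_one, neg_mul,
      mul_inv_cancel]
  have h3 : (g * φ gA * g⁻¹ * (g * φ gU * g⁻¹)) ^ 3 = 1 := by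
    rw [show g * φ gA * g⁻¹ * (g * φ gU * g⁻¹) = g * φ (gA * gU) * g⁻¹ by rw [map_mul]; group, conj_pow,
      ← map_pow, facts.2.2.2.2.2.1, map_one, mul_one, mul_inv_cancel]
  rcases hg with hg | hg <;> rw [hg] at h3
  · obtain ⟨t, ht⟩ := exists_shift h4 h3
    refine ⟨gU ^ t * g, Or.inl ⟨?_, ?_⟩⟩
    · rw [show gU ^ t * g * φ gU * (gU ^ t * g)⁻¹ = gU ^ t * (g * φ gU * g⁻¹) * (gU ^ t)⁻¹ by group, hg]
      group
    · rw [show gU ^ t * g * φ gA * (gU ^ t * g)⁻¹ = gU ^ t * (g * φ gA * g⁻¹) * (gU ^ t)⁻¹ by group]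
      exact ht
  · obtain ⟨t, ht⟩ := outer_shift h4 h3
    refine ⟨gU ^ t * g, Or.inr ⟨?_, ?_⟩⟩
    · rw [show gU ^ t * g * φ gU * (gU ^ t * g)⁻¹ = gU ^ t * (g * φ gU * g⁻¹) * (gU ^ t)⁻¹ by group, hg]
      group
    · rw [show gU ^ t * g * φ gA * (gU ^ t * g)⁻¹ = gU ^ t * (g * φ gA * g⁻¹) * (gU ^ t)⁻¹ by group]
      exact ht

end CfsgLib.KnownC.DivisionRing
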